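import Groth.Agent.RedPts.Glue
import Mathlib.RingTheory.Polynomial.Nilpotent

/-!
# Homomorphisms from the additive to the multiplicative group over a reduced base
-/

suppress_compilation
universe u

open CategoryTheory MonoidalCategory CartesianMonoidalCategory MonObj GrpObj AlgebraicGeometry Polynomial
open scoped CategoryTheory.Obj

namespace Groth.Agent.GaToGm

attribute [-instance] ULift.module

open Groth.Agent.RedPts

theorem gaFn_one {S : Scheme.{u}} {X : Over S} : Red.gaFn (1 : X ⟶ Red.Ga S) = 0 := by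
  have h := gaFn_mul (1 : X ⟶ Red.Ga S) 1
  rw [show (1 : X ⟶ Red.Ga S) * 1 = 1 from _root_.mul_one _] at h
  exact left_eq_add.1 h

variable {S : Scheme.{u}} (φ : Red.Ga S ⟶ Red.Gm S) [IsMonHom φ]

/-- A test point whose base factors through a reduced affine scheme is killed. -/
theorem comp_eq_one_of_spec {A B : Type u} [CommRing A] (hA : _root_.IsReduced A) [CommRing B]
    (j : Spec (CommRingCat.of A) ⟶ S) (g : A →+* B)
    (x : Over.mk (Spec.map (CommRingCat.ofHom g) ≫ j) ⟶ Red.Ga S) : x ≫ φ = 1 := by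
  let Y : Over S := Over.mk (Spec.map (CommRingCat.ofHom (C : A →+* A[X])) ≫ j)
  let t : Y ⟶ Red.Ga S := pA ((Scheme.ΓSpecIso (CommRingCat.of A[X])).inv X)
  obtain ⟨h, hh⟩ : ∃ h : A[X], (Scheme.ΓSpecIso (CommRingCat.of A[X])).inv h = Red.gmFn (t ≫ φ) :=
    ⟨(Scheme.ΓSpecIso (CommRingCat.of A[X])).hom (Red.gmFn (t ≫ φ)), by simp⟩
  have hu : IsUnit h := by
    have := (isUnit_gmFn (t ≫ φ)).map (Scheme.ΓSpecIso (CommRingCat.of A[X])).hom.hom
    rw [← hh] at this
    simpa using this
  obtain ⟨h0, hi⟩ := Polynomial.isUnit_iff_coeff_isUnit_isNilpotent.1 hu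
  have hC : h = C (h.coeff 0) := by
    ext i
    rcases eq_or_ne i 0 with rfl | hne
    · simp
    · rw [coeff_C, if_neg hne, (hi i hne).eq_zero]
  have key : ∀ (W : Type u) [CommRing W] (q : A →+* W) (a : W)
      (y : Over.mk (Spec.map (CommRingCat.ofHom q) ≫ j) ⟶ Red.Ga S),
      Red.gaFn y = (Scheme.ΓSpecIso (CommRingCat.of W)).inv a →
      Red.gmFn (y ≫ φ) = (Scheme.ΓSpecIso (CommRingCat.of W)).inv (q (h.coeff 0)) := by
    intro W _ q a y hy
    let m : Over.mk (Spec.map (CommRingCat.ofHom q) ≫ j) ⟶ Y :=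
      Over.homMk (Spec.map (CommRingCat.ofHom (eval₂RingHom q a))) (by
        show Spec.map _ ≫ Spec.map _ ≫ j = _
        rw [← Spec.map_comp_assoc, ← CommRingCat.ofHom_comp, eval₂RingHom_comp_C]; rfl)
    have hnat : ∀ p : A[X], m.left.appTop ((Scheme.ΓSpecIso (CommRingCat.of A[X])).inv p) =
        (Scheme.ΓSpecIso (CommRingCat.of W)).inv (p.eval₂ q a) := fun p =>
      (congrArg (fun t => t.hom p) (Scheme.ΓSpecIso_inv_naturality (CommRingCat.ofHom (eval₂RingHom q a)))).symm
    have hmy : m ≫ t = y := by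
      apply gaFn_injective
      rw [gaFn_comp, gaFn_pA, hy]
      exact (hnat X).trans (by rw [eval₂_X])
    rw [← hmy, Category.assoc, gmFn_comp, ← hh]
    refine (hnat h).trans ?_
    conv_lhs => rw [hC, eval₂_C]
  have hc : h.coeff 0 = 1 := by
    have := key A (RingHom.id A) 0 1 (by rw [gaFn_one, map_zero])
    rw [MonObj.one_comp, gmFn_one] at this
    have h' := congrArg (Scheme.ΓSpecIso (CommRingCat.of A)).hom this
    simpa using h'.symm
  refine gmFn_injective ?_
  rw [gmFn_one, key B g ((Scheme.ΓSpecIso (CommRingCat.of B)).hom (Red.gaFn x)) x (by simp), hc, map_one, map_one]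

/-- A test point over an affine open of the reduced base is killed. -/
theorem comp_eq_one_of_affine {U X : Scheme.{u}} [IsAffine U] [IsAffine X] [hU : AlgebraicGeometry.IsReduced U]
    (j : U ⟶ S) (p : X ⟶ U) (x : Over.mk (p ≫ j) ⟶ Red.Ga S) : x ≫ φ = 1 := by
  obtain ⟨g, hg⟩ := Spec.map_surjective (X.isoSpec.inv ≫ p ≫ U.isoSpec.hom)
  let e : Over.mk (Spec.map (CommRingCat.ofHom g.hom) ≫ U.isoSpec.inv ≫ j) ≅ Over.mk (p ≫ j) :=
    Over.isoMk X.isoSpec.symm (by
      show X.isoSpec.inv ≫ p ≫ j = Spec.map g ≫ U.isoSpec.inv ≫ j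
      rw [hg]; simp)
  have h := comp_eq_one_of_spec φ (@AlgebraicGeometry.IsReduced.component_reduced U hU ⊤) (U.isoSpec.inv ≫ j) g.hom (e.hom ≫ x)
  rw [Category.assoc] at h
  rw [← cancel_epi e.hom, h, MonObj.comp_one]

/-- Over a reduced base every homomorphism from the additive to the multiplicative group is trivial. -/
theorem eq_one [AlgebraicGeometry.IsReduced S] : φ = 1 := by
  apply Over.OverMorphism.ext
  refine Scheme.Cover.hom_ext (S.affineCover.pullback₁ (Red.Ga S).hom) _ _ fun i => ?_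
  refine Scheme.Cover.hom_ext (Scheme.affineCover _) _ _ fun l => ?_
  haveI : AlgebraicGeometry.IsReduced (S.affineCover.X i) := isReduced_of_isOpenImmersion (S.affineCover.f i)
  let Z := Limits.pullback (Red.Ga S).hom (S.affineCover.f i)
  let v := Z.affineCover.f l ≫ Limits.pullback.fst (Red.Ga S).hom (S.affineCover.f i)
  let p := Z.affineCover.f l ≫ Limits.pullback.snd (Red.Ga S).hom (S.affineCover.f i)
  have hv : v ≫ (Red.Ga S).hom = p ≫ S.affineCover.f i := by
    simp only [v, p, Category.assoc, Limits.pullback.condition]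
  let x : Over.mk (p ≫ S.affineCover.f i) ⟶ Red.Ga S := Over.homMk v hv
  have h1 := congrArg CommaMorphism.left
    ((comp_eq_one_of_affine φ (S.affineCover.f i) p x).trans (MonObj.comp_one x).symm)
  exact (Category.assoc _ _ _).symm.trans (h1.trans (Category.assoc _ _ _))

end Groth.Agent.GaToGm
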